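import Groth.Prelude.Def_FGA
import Mathlib.AlgebraicGeometry.IdealSheaf.Functorial

/-!
Pulling closed subschemes back along monomorphisms and along base changes.
-/

universe u

open CategoryTheory Limits AlgebraicGeometry

namespace Groth.MorSchAux

variable {X Y Z S : Scheme.{u}}

theorem comap_ker_comp_mono {V : Scheme.{u}} (c : V ⟶ X) (m : X ⟶ Y) [Mono m] [IsClosedImmersion (c ≫ m)] :
    (c ≫ m).ker.comap m = c.ker := by
  rw [← Scheme.IdealSheafData.ker_fst_of_isClosedImmersion]
  have hfst : pullback.fst m (c ≫ m) = pullback.snd m (c ≫ m) ≫ c := by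
    rw [← cancel_mono m, pullback.condition, Category.assoc]
  have : IsIso (pullback.snd m (c ≫ m)) := by
    refine ⟨⟨pullback.lift c (𝟙 V) (Category.id_comp _).symm, ?_, pullback.lift_snd _ _ _⟩⟩
    refine pullback.hom_ext ?_ ?_
    · rw [Category.assoc, pullback.lift_fst, Category.id_comp, hfst]
    · rw [Category.assoc, pullback.lift_snd, Category.comp_id, Category.id_comp]
  rw [hfst, Scheme.Hom.ker_comp_of_isIso]

theorem isIso_snd_of_range_subset (I : Y.IdealSheafData) (m : X ⟶ Y) [IsOpenImmersion m]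
    (h : Set.range I.subschemeι ⊆ Set.range m) : IsIso (pullback.snd m I.subschemeι) := by
  have : Surjective (pullback.snd m I.subschemeι) := ⟨fun z => by
    have : z ∈ Set.range (pullback.snd m I.subschemeι) := by
      rw [Scheme.Pullback.range_snd]
      exact h ⟨z, rfl⟩
    exact this⟩
  exact (isIso_iff_isOpenImmersion_and_surjective _).mpr ⟨inferInstance, inferInstance⟩

theorem exists_subscheme_comap_iso (I : Y.IdealSheafData) (m : X ⟶ Y) [IsOpenImmersion m]
    (h : Set.range I.subschemeι ⊆ Set.range m) :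
    ∃ e : (I.comap m).subscheme ⟶ I.subscheme, IsIso e ∧
      (I.comap m).subschemeι ≫ m = e ≫ I.subschemeι := by
  have := isIso_snd_of_range_subset I m h
  refine ⟨(I.comapIso m).hom ≫ pullback.snd m I.subschemeι, inferInstance, ?_⟩
  rw [Category.assoc, ← pullback.condition, Scheme.IdealSheafData.comapIso_hom_fst_assoc]

theorem ker_comap_comp_of_range_subset (I : Y.IdealSheafData) (m : X ⟶ Y) [IsOpenImmersion m]
    (h : Set.range I.subschemeι ⊆ Set.range m) : ((I.comap m).subschemeι ≫ m).ker = I := by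
  obtain ⟨e, he, h1⟩ := exists_subscheme_comap_iso I m h
  rw [h1, Scheme.Hom.ker_comp_of_isIso, Scheme.IdealSheafData.ker_subschemeι]

theorem comap_injective_of_isIso (β : X ⟶ Y) [IsIso β] :
    Function.Injective (fun I : Y.IdealSheafData => I.comap β) := fun I J h => by
  have h1 := congrArg (fun K : X.IdealSheafData => K.comap (inv β)) h
  simp only [← Scheme.IdealSheafData.comap_comp, IsIso.inv_hom_id, Scheme.IdealSheafData.comap_id] at h1
  exact h1

theorem exists_subscheme_ker_iso {V : Scheme.{u}} (c : V ⟶ Y) [IsClosedImmersion c] :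
    ∃ e : V ⟶ c.ker.subscheme, IsIso e ∧ e ≫ c.ker.subschemeι = c :=
  ⟨c.toImage, inferInstance, c.toImage_imageι⟩

theorem range_fst_of_isPullback {P : Scheme.{u}} {fst : P ⟶ X} {snd : P ⟶ Y} {f : X ⟶ Z} {g : Y ⟶ Z}
    (h : IsPullback fst snd f g) : Set.range fst = f ⁻¹' Set.range g := by
  rw [← h.isoPullback_hom_fst, Scheme.Hom.comp_base, TopCat.coe_comp,
    h.isoPullback.hom.surjective.range_comp, Scheme.Pullback.range_fst]

theorem mem_hilbProps_of_iso {A B T : Scheme.{u}} (e : A ⟶ B) [IsIso e] (p : A ⟶ T) (q : B ⟶ T)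
    (h : p = e ≫ q) (hq : IsProper q ∧ Flat q) : IsProper p ∧ Flat p := by
  obtain ⟨h1, h2⟩ := hq
  subst h
  exact ⟨inferInstance, inferInstance⟩

section Hilb

variable (f : X ⟶ S)

theorem hilbPull_eq_comap {T T' : Over S} (g : T' ⟶ T) (I : (PicF.XT f T).IdealSheafData) :
    FGA.hilbPull f g I = I.comap (PicF.XTmap f g) := by
  rw [FGA.hilbPull, Scheme.IdealSheafData.comap,
    ← pullbackSymmetry_hom_comp_fst I.subschemeι (PicF.XTmap f g), Scheme.Hom.ker_comp_of_isIso]

theorem isPullback_XTmap {T T' : Over S} (g : T' ⟶ T) :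
    IsPullback (PicF.XTmap f g) (PicF.XTproj f T') (PicF.XTproj f T) g.left := by
  refine IsPullback.of_right ?_ ((pullback.lift_snd _ _ _)) (IsPullback.of_hasPullback f T.hom)
  rw [show PicF.XTmap f g ≫ pullback.fst f T.hom = pullback.fst f T'.hom from
    (pullback.lift_fst _ _ _).trans (Category.comp_id _)]
  rw [show g.left ≫ T.hom = T'.hom from Over.w g]
  exact IsPullback.of_hasPullback f T'.hom

/-- The pullback of a point of the Hilbert functor. -/
noncomputable def hilbSetPull {T T' : Over S} (g : T' ⟶ T) (Z : FGA.HilbSet f T) : FGA.HilbSet f T' :=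
  ⟨Z.1.comap (PicF.XTmap f g), by
    have h1 : IsPullback ((Z.1.comapIso (PicF.XTmap f g)).hom ≫ pullback.snd _ _)
        ((Z.1.comap (PicF.XTmap f g)).subschemeι) Z.1.subschemeι (PicF.XTmap f g) := by
      refine IsPullback.of_iso_pullback ⟨?_⟩ ((Z.1.comapIso (PicF.XTmap f g)) ≪≫ pullbackSymmetry _ _) ?_ ?_
      · rw [Category.assoc, ← pullback.condition, Scheme.IdealSheafData.comapIso_hom_fst_assoc]
      · simp
      · simp
    have h2 := h1.paste_vert (isPullback_XTmap f g)
    obtain ⟨hp, hf⟩ := Z.2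
    exact ⟨MorphismProperty.of_isPullback h2 hp, MorphismProperty.of_isPullback h2 hf⟩⟩

theorem hilbSetPull_val {T T' : Over S} (g : T' ⟶ T) (Z : FGA.HilbSet f T) :
    (hilbSetPull f g Z).1 = FGA.hilbPull f g Z.1 := (hilbPull_eq_comap f g Z.1).symm

end Hilb

end Groth.MorSchAux
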