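import Groth.Prelude.Def_Flatn
import Mathlib.AlgebraicGeometry.Limits
import Mathlib.AlgebraicGeometry.Morphisms.Proper
import Mathlib.CategoryTheory.Extensive

/-!
Elementary properties of the functor of relative morphisms.
-/

universe u

open CategoryTheory Limits AlgebraicGeometry

namespace Groth.MorSchAux

theorem nonempty_isColimit_pullback_sigma {S T : Scheme.{u}} {ι : Type u} [Finite ι]
    (X : ι → Scheme.{u}) (g : ∀ i, X i ⟶ S) (t : T ⟶ S) :
    Nonempty (IsColimit (Cofan.mk (pullback t (Sigma.desc g)) fun i =>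
      pullback.map t (g i) t (Sigma.desc g) (𝟙 T) (Sigma.ι X i) (𝟙 S)
        ((Category.comp_id _).trans (Category.id_comp _).symm)
        ((Category.comp_id _).trans (Sigma.ι_desc g i).symm))) := by
  refine IsUniversalColimit.nonempty_isColimit_of_pullbackCone_left
    (FinitaryPreExtensive.isUniversal_finiteCoproducts (coproductIsCoproduct X)) g (Sigma.desc g) t
    (fun i => pullback.cone t (g i)) (fun i => pullback.isLimit t (g i))
    (pullback.cone t (Sigma.desc g)) (pullback.isLimit t (Sigma.desc g)) _ (Iso.refl _) ?_ ?_ ?_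
  · intro i; exact Sigma.ι_desc g i
  · intro i
    exact (congrArg (_ ≫ ·) (Category.id_comp _)).trans ((pullback.lift_fst _ _ _).trans (Category.comp_id _))
  · intro i
    exact (congrArg (_ ≫ ·) (Category.id_comp _)).trans (pullback.lift_snd _ _ _)

theorem existsUnique_morS_sigmaDesc
    {S Y : Scheme.{u}} {ι : Type u} [Finite ι] (X : ι → Scheme.{u}) (g : ∀ i, X i ⟶ S)
    (gY : Y ⟶ S) (T : Over S) (a : ∀ i, (Flatn.morS (g i) gY).obj (Opposite.op T)) :
    ∃! b : (Flatn.morS (Sigma.desc g) gY).obj (Opposite.op T),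
      ∀ i, pullback.map T.hom (g i) T.hom (Sigma.desc g) (𝟙 T.left) (Sigma.ι X i) (𝟙 S)
          ((Category.comp_id _).trans (Category.id_comp _).symm)
          ((Category.comp_id _).trans (Sigma.ι_desc g i).symm) ≫ b.left = (a i).left := by
  obtain ⟨hc⟩ := nonempty_isColimit_pullback_sigma X g T.hom
  have hw : ∀ i, (a i).left ≫ gY = pullback.snd T.hom (g i) ≫ g i := fun i => Over.w (a i)
  refine ⟨Over.homMk (Cofan.IsColimit.desc hc fun i => (a i).left) ?_, fun i => ?_, fun b hb => ?_⟩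
  · refine Cofan.IsColimit.hom_ext hc _ _ fun i => ?_
    refine (Category.assoc _ _ _).symm.trans ?_
    refine (congrArg (· ≫ gY) (Cofan.IsColimit.fac hc _ i)).trans ((hw i).trans ?_)
    symm
    refine (Category.assoc _ _ _).symm.trans ?_
    refine (congrArg (· ≫ Sigma.desc g) (pullback.lift_snd _ _ _)).trans ?_
    rw [Category.assoc, Sigma.ι_desc]
  · exact Cofan.IsColimit.fac hc _ i
  · refine Over.OverMorphism.ext (Cofan.IsColimit.hom_ext hc _ _ fun i => ?_)
    exact (hb i).trans (Cofan.IsColimit.fac hc (fun i => (a i).left) i).symm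

theorem exists_open_range_subset_iff
    {V X U S : Scheme.{u}} (g : X ⟶ S) [IsProper g] (i : V ⟶ X) [IsClosedImmersion i]
    (j : U ⟶ X) [IsOpenImmersion j] :
    ∃ S₀ : S.Opens, ∀ (S' : Scheme.{u}) (f : S' ⟶ S),
      Set.range f ⊆ (S₀ : Set S) ↔
        Set.range (pullback.fst (i ≫ g) f ≫ i) ⊆ Set.range j := by
  refine ⟨⟨(g '' (Set.range i \ Set.range j))ᶜ, (g.isClosedMap _ ?_).isOpen_compl⟩, fun S' f => ?_⟩
  · exact i.isClosedEmbedding.isClosed_range.sdiff j.isOpenEmbedding.isOpen_range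
  have hr : Set.range (pullback.fst (i ≫ g) f ≫ i) = i '' ((i ≫ g) ⁻¹' Set.range f) := by
    rw [Scheme.Hom.comp_base, TopCat.coe_comp, Set.range_comp, Scheme.Pullback.range_fst]
  rw [hr]
  constructor
  · rintro h _ ⟨v, ⟨s, hs⟩, rfl⟩
    by_contra hj
    refine h ⟨s, rfl⟩ ⟨i v, ⟨⟨v, rfl⟩, hj⟩, ?_⟩
    rw [hs, Scheme.Hom.comp_apply]
  · rintro h _ ⟨s, rfl⟩ ⟨_, ⟨⟨v, rfl⟩, hj⟩, he⟩
    exact hj (h ⟨v, ⟨s, by rw [Scheme.Hom.comp_apply]; exact he.symm⟩, rfl⟩)

end Groth.MorSchAux
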