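import Groth.Agent.SchemeMorphisms.MorSch.IdealTools
import Groth.Prelude.Def_Flatn

/-!
The functor of relative morphisms into an open subscheme.
-/

universe u

open CategoryTheory Limits AlgebraicGeometry

namespace Groth.MorSchAux

variable {X Y U S : Scheme.{u}} (gX : X ⟶ S)

theorem isPullback_pullback_map {T T' : Over S} (φ : T ⟶ T') :
    IsPullback ((Over.pullback gX).map φ).left (pullback.fst T.hom gX) (pullback.fst T'.hom gX) φ.left := by
  refine IsPullback.of_right ?_ (pullback.lift_fst _ _ _) (IsPullback.of_hasPullback T'.hom gX).flip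
  rw [show ((Over.pullback gX).map φ).left ≫ pullback.snd T'.hom gX = pullback.snd T.hom gX from
    pullback.lift_snd _ _ _, show φ.left ≫ T'.hom = T.hom from Over.w φ]
  exact (IsPullback.of_hasPullback T.hom gX).flip

theorem exists_opens_representableBy_morS
    [IsProper gX] (gY : Y ⟶ S) (j : U ⟶ Y) [IsOpenImmersion j]
    (M : Over S) (e : (Flatn.morS gX gY).RepresentableBy M) :
    ∃ (M₀ : M.left.Opens)
      (e₀ : (Flatn.morS gX (j ≫ gY)).RepresentableBy (Over.mk (M₀.ι ≫ M.hom))),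
      ∀ (T : Over S) (φ : T ⟶ Over.mk (M₀.ι ≫ M.hom)),
        (e.homEquiv (φ ≫ Over.homMk M₀.ι rfl) :
            (Over.map gX).obj ((Over.pullback gX).obj T) ⟶ Over.mk gY) =
          (e₀.homEquiv φ : (Over.map gX).obj ((Over.pullback gX).obj T) ⟶ Over.mk (j ≫ gY)) ≫
            (Over.homMk j rfl : Over.mk (j ≫ gY) ⟶ Over.mk gY) := by
  let a : (Over.map gX).obj ((Over.pullback gX).obj M) ⟶ Over.mk gY := e.homEquiv (𝟙 M)
  let p : pullback M.hom gX ⟶ M.left := pullback.fst M.hom gX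
  let M₀ : M.left.Opens := ⟨(p '' (a.left ⁻¹' Set.range j)ᶜ)ᶜ,
    (p.isClosedMap _ (j.isOpenEmbedding.isOpen_range.preimage a.left.continuous).isClosed_compl).isOpen_compl⟩
  have happly : ∀ (T : Over S) (φ : T ⟶ M),
      (e.homEquiv φ : (Over.map gX).obj ((Over.pullback gX).obj T) ⟶ Over.mk gY).left =
        ((Over.pullback gX).map φ).left ≫ a.left := fun T φ => by
    rw [e.homEquiv_eq φ]
    rfl
  have key : ∀ (T : Over S) (φ : T ⟶ M), Set.range φ.left ⊆ (M₀ : Set M.left) ↔
      Set.range (e.homEquiv φ : (Over.map gX).obj ((Over.pullback gX).obj T) ⟶ Over.mk gY).left ⊆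
        Set.range j := by
    intro T φ
    rw [happly, Scheme.Hom.comp_base, TopCat.coe_comp, Set.range_comp, Set.image_subset_iff]
    change _ ↔ Set.range ((Over.pullback gX).map φ).left ⊆ _
    rw [range_fst_of_isPullback (isPullback_pullback_map gX φ)]
    constructor
    · intro h z hz
      by_contra hj
      exact h hz ⟨z, hj, rfl⟩
    · rintro h m hm ⟨z, hz, rfl⟩
      exact hz (h hm)
  let M' : Over S := Over.mk (M₀.ι ≫ M.hom)
  let i : M' ⟶ M := Over.homMk M₀.ι rfl
  let jO : Over.mk (j ≫ gY) ⟶ Over.mk gY := Over.homMk j rfl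
  have hi : ∀ {T : Over S} (φ : T ⟶ M'), Set.range (φ ≫ i).left ⊆ (M₀ : Set M.left) := fun {T} φ => by
    rw [Over.comp_left, Scheme.Hom.comp_base, TopCat.coe_comp]
    exact (Set.range_comp_subset_range _ _).trans (Scheme.Opens.range_ι M₀).subset
  let toU : ∀ {T : Over S}, (T ⟶ M') → ((Over.map gX).obj ((Over.pullback gX).obj T) ⟶ Over.mk (j ≫ gY)) :=
    fun {T} φ => Over.homMk
      (IsOpenImmersion.lift j (e.homEquiv (φ ≫ i) : (Over.map gX).obj ((Over.pullback gX).obj T) ⟶ Over.mk gY).left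
        ((key T _).mp (hi φ)))
      ((Category.assoc _ _ _).symm.trans ((congrArg (· ≫ gY) (IsOpenImmersion.lift_fac _ _ _)).trans (Over.w _)))
  have htoU : ∀ {T : Over S} (φ : T ⟶ M'), toU φ ≫ jO = e.homEquiv (φ ≫ i) := fun {T} φ =>
    Over.OverMorphism.ext (IsOpenImmersion.lift_fac _ _ _)
  have hrange : ∀ {T : Over S} (c : (Over.map gX).obj ((Over.pullback gX).obj T) ⟶ Over.mk (j ≫ gY)),
      Set.range (e.homEquiv.symm (c ≫ jO) : T ⟶ M).left ⊆ Set.range M₀.ι := fun {T} c => by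
    rw [Scheme.Opens.range_ι]
    refine (key T _).mpr ?_
    rw [Equiv.apply_symm_apply, Over.comp_left, Scheme.Hom.comp_base, TopCat.coe_comp]
    exact Set.range_comp_subset_range _ _
  let ofU : ∀ {T : Over S}, ((Over.map gX).obj ((Over.pullback gX).obj T) ⟶ Over.mk (j ≫ gY)) → (T ⟶ M') :=
    fun {T} c => Over.homMk (IsOpenImmersion.lift M₀.ι _ (hrange c))
      ((Category.assoc _ _ _).symm.trans ((congrArg (· ≫ M.hom) (IsOpenImmersion.lift_fac _ _ _)).trans (Over.w _)))
  have hofU : ∀ {T : Over S} (c : (Over.map gX).obj ((Over.pullback gX).obj T) ⟶ Over.mk (j ≫ gY)),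
      ofU c ≫ i = e.homEquiv.symm (c ≫ jO) := fun {T} c =>
    Over.OverMorphism.ext (IsOpenImmersion.lift_fac _ _ _)
  have hmi : ∀ {T : Over S} (φ ψ : T ⟶ M'), φ ≫ i = ψ ≫ i → φ = ψ := fun φ ψ h =>
    Over.OverMorphism.ext ((cancel_mono M₀.ι).mp (congrArg CommaMorphism.left h))
  have hmj : ∀ {T : Over S} (c d : T ⟶ Over.mk (j ≫ gY)), c ≫ jO = d ≫ jO → c = d := fun c d h =>
    Over.OverMorphism.ext ((cancel_mono j).mp (congrArg CommaMorphism.left h))
  refine ⟨M₀, {
    homEquiv := fun {T} =>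
      { toFun := toU
        invFun := ofU
        left_inv := fun φ => hmi _ _ (by rw [hofU, htoU, Equiv.symm_apply_apply])
        right_inv := fun c => hmj _ _ (by rw [htoU, hofU, Equiv.apply_symm_apply]) }
    homEquiv_comp := fun {T T'} φ ψ => hmj _ _ ?_ }, fun T φ => (htoU φ).symm⟩
  refine (htoU (φ ≫ ψ)).trans ?_
  rw [Category.assoc, e.homEquiv_comp]
  refine Eq.trans ?_ (Category.assoc _ _ _).symm
  exact congrArg _ (htoU ψ).symm

end Groth.MorSchAux
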