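import Groth.Agent.SchemeMorphisms.MorSch.IsoLocus
import Groth.Agent.SchemeMorphisms.MorSch.OpenSub

/-!
Isomorphism locus in relative form; morphisms as graphs inside the Hilbert scheme.
-/

universe u

open CategoryTheory Limits AlgebraicGeometry

namespace Groth.MorSchAux

theorem exists_open_isIso_baseChange {S : Scheme.{u}} [IsLocallyNoetherian S] (X Y : Over S)
    [IsProper X.hom] [IsProper Y.hom] [Flat X.hom] (f : X ⟶ Y) :
    ∃ S₀ : S.Opens, ∀ (S' : Scheme.{u}) (h : S' ⟶ S),
      Set.range h ⊆ (S₀ : Set S) ↔ IsIso ((Over.pullback h).map f).left := by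
  have hw : f.left ≫ Y.hom = X.hom := Over.w f
  have : IsProper (f.left ≫ Y.hom) := by rw [hw]; infer_instance
  have : Flat (f.left ≫ Y.hom) := by rw [hw]; infer_instance
  obtain ⟨S₀, hS₀⟩ := exists_open_isIso_snd f.left Y.hom
  refine ⟨S₀, fun S' h => (hS₀ S' h).trans ?_⟩
  have hpb : IsPullback (pullback.fst X.hom h) ((Over.pullback h).map f).left f.left (pullback.fst Y.hom h) :=
    (isPullback_pullback_map h f).flip
  exact (MorphismProperty.cancel_left_of_respectsIso (MorphismProperty.isomorphisms Scheme.{u})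
    hpb.isoPullback.hom _).symm.trans (iff_of_eq (congrArg (fun m => IsIso m) hpb.isoPullback_hom_snd))

section Graph

variable {X Y S : Scheme.{u}} (gX : X ⟶ S) (gY : Y ⟶ S) (T : Over S)

/-- `(X ×_S Y) ×_S T ⟶ T ×_S X`. -/
noncomputable def toXT : PicF.XT (pullback.fst gX gY ≫ gX) T ⟶ pullback T.hom gX :=
  pullback.lift (pullback.snd _ _) (pullback.fst _ _ ≫ pullback.fst gX gY)
    ((pullback.condition.symm).trans (Category.assoc _ _ _).symm)

/-- The graph of `a : T ×_S X ⟶ Y`. -/
noncomputable def graph (a : (Flatn.morS gX gY).obj (Opposite.op T)) :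
    pullback T.hom gX ⟶ PicF.XT (pullback.fst gX gY ≫ gX) T :=
  pullback.lift (pullback.lift (pullback.snd T.hom gX) a.left (Over.w a).symm)
    (pullback.fst T.hom gX) ((pullback.lift_fst_assoc _ _ _ _).trans pullback.condition.symm)

theorem toXT_fst : toXT gX gY T ≫ pullback.fst T.hom gX = PicF.XTproj _ T := pullback.lift_fst _ _ _

theorem graph_toXT (a : (Flatn.morS gX gY).obj (Opposite.op T)) :
    graph gX gY T a ≫ toXT gX gY T = 𝟙 _ := by
  refine pullback.hom_ext ?_ ?_
  · rw [Category.assoc, Category.id_comp, toXT, pullback.lift_fst]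
    exact pullback.lift_snd _ _ _
  · rw [Category.assoc, Category.id_comp, toXT, pullback.lift_snd]
    exact (pullback.lift_fst_assoc _ _ _ _).trans (pullback.lift_fst _ _ _)

instance [IsSeparated gX] [IsSeparated gY] : IsSeparated (toXT gX gY T) := by
  have : IsSeparated (toXT gX gY T ≫ pullback.fst T.hom gX) := by rw [toXT_fst]; infer_instance
  exact IsSeparated.of_comp _ (pullback.fst T.hom gX)

theorem isClosedImmersion_graph [IsSeparated gX] [IsSeparated gY]
    (a : (Flatn.morS gX gY).obj (Opposite.op T)) : IsClosedImmersion (graph gX gY T a) := by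
  have : IsClosedImmersion (graph gX gY T a ≫ toXT gX gY T) := by rw [graph_toXT]; infer_instance
  exact IsClosedImmersion.of_comp _ (toXT gX gY T)

theorem graph_ker_injective [IsSeparated gX] [IsSeparated gY] :
    Function.Injective fun a : (Flatn.morS gX gY).obj (Opposite.op T) => (graph gX gY T a).ker := by
  intro a b h
  have := isClosedImmersion_graph gX gY T a
  have := isClosedImmersion_graph gX gY T b
  have hl := IsClosedImmersion.lift_fac (graph gX gY T b) (graph gX gY T a) (le_of_eq h.symm)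
  have h1 : IsClosedImmersion.lift (graph gX gY T b) (graph gX gY T a) (le_of_eq h.symm) = 𝟙 _ := by
    have := congrArg (· ≫ toXT gX gY T) hl
    simp only [Category.assoc, graph_toXT, Category.comp_id] at this
    exact this
  rw [h1, Category.id_comp] at hl
  refine Over.OverMorphism.ext ?_
  have h2 := congrArg (fun m => m ≫ pullback.fst (pullback.fst gX gY ≫ gX) T.hom ≫ pullback.snd gX gY) hl
  simpa [graph, pullback.lift_fst_assoc, pullback.lift_snd] using h2.symm

theorem exists_eq_graph_ker [IsSeparated gX] [IsSeparated gY]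
    (I : (PicF.XT (pullback.fst gX gY ≫ gX) T).IdealSheafData)
    [IsIso (I.subschemeι ≫ toXT gX gY T)] :
    ∃ a : (Flatn.morS gX gY).obj (Opposite.op T), I = (graph gX gY T a).ker := by
  let c := inv (I.subschemeι ≫ toXT gX gY T) ≫ I.subschemeι
  have hc1 : c ≫ toXT gX gY T = 𝟙 _ := by simp [c]
  have hc2 : (c ≫ pullback.fst _ _) ≫ pullback.fst gX gY = pullback.snd T.hom gX := by
    have := congrArg (· ≫ pullback.snd T.hom gX) hc1
    rw [Category.id_comp, Category.assoc, toXT, pullback.lift_snd] at this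
    rw [Category.assoc]; exact this
  have hc3 : c ≫ pullback.snd _ _ = pullback.fst T.hom gX := by
    have := congrArg (· ≫ pullback.fst T.hom gX) hc1
    rw [Category.id_comp, Category.assoc, toXT, pullback.lift_fst] at this
    exact this
  let a : (Flatn.morS gX gY).obj (Opposite.op T) :=
    Over.homMk ((c ≫ pullback.fst _ _) ≫ pullback.snd gX gY) (by
      change ((c ≫ pullback.fst _ _) ≫ pullback.snd gX gY) ≫ gY = pullback.snd T.hom gX ≫ gX
      rw [Category.assoc, ← pullback.condition, ← Category.assoc, hc2])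
  have hga : graph gX gY T a = c := by
    refine pullback.hom_ext ?_ ?_
    · refine (pullback.lift_fst _ _ _).trans (pullback.hom_ext ?_ ?_)
      · exact (pullback.lift_fst _ _ _).trans hc2.symm
      · exact pullback.lift_snd _ _ _
    · exact (pullback.lift_snd _ _ _).trans hc3.symm
  refine ⟨a, ?_⟩
  rw [hga, Scheme.Hom.ker_comp_of_isIso, Scheme.IdealSheafData.ker_subschemeι]

theorem isIso_of_eq_graph_ker [IsSeparated gX] [IsSeparated gY]
    (I : (PicF.XT (pullback.fst gX gY ≫ gX) T).IdealSheafData)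
    (a : (Flatn.morS gX gY).obj (Opposite.op T)) (h : I = (graph gX gY T a).ker) :
    IsIso (I.subschemeι ≫ toXT gX gY T) := by
  subst h
  have := isClosedImmersion_graph gX gY T a
  obtain ⟨e, he, h1⟩ := exists_subscheme_ker_iso (graph gX gY T a)
  have : IsIso (e ≫ (graph gX gY T a).ker.subschemeι ≫ toXT gX gY T) := by
    rw [reassoc_of% h1, graph_toXT]; infer_instance
  exact IsIso.of_isIso_comp_left e _

/-- The graph as a point of the Hilbert functor. -/
noncomputable def graphSet [IsProper gX] [Flat gX] [IsSeparated gY]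
    (a : (Flatn.morS gX gY).obj (Opposite.op T)) : FGA.HilbSet (pullback.fst gX gY ≫ gX) T :=
  ⟨(graph gX gY T a).ker, by
    have := isClosedImmersion_graph gX gY T a
    obtain ⟨e, he, h1⟩ := exists_subscheme_ker_iso (graph gX gY T a)
    refine mem_hilbProps_of_iso (inv e) _ (pullback.fst T.hom gX) ?_ ⟨inferInstance, inferInstance⟩
    rw [IsIso.eq_inv_comp, reassoc_of% h1]
    exact pullback.lift_snd _ _ _⟩

theorem isPullback_subscheme_toXT {T' : Over S} (g : T' ⟶ T)
    (I : (PicF.XT (pullback.fst gX gY ≫ gX) T).IdealSheafData) :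
    IsPullback ((I.comapIso (PicF.XTmap _ g)).hom ≫ pullback.snd _ _)
      ((I.comap (PicF.XTmap _ g)).subschemeι ≫ toXT gX gY T')
      (I.subschemeι ≫ toXT gX gY T) ((Over.pullback gX).map g).left := by
  have h1 : IsPullback ((I.comapIso (PicF.XTmap _ g)).hom ≫ pullback.snd _ _)
      ((I.comap (PicF.XTmap _ g)).subschemeι) I.subschemeι (PicF.XTmap _ g) := by
    refine IsPullback.of_iso_pullback ⟨?_⟩ ((I.comapIso (PicF.XTmap _ g)) ≪≫ pullbackSymmetry _ _) ?_ ?_
    · rw [Category.assoc, ← pullback.condition, Scheme.IdealSheafData.comapIso_hom_fst_assoc]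
    · simp
    · simp
  have hnat : PicF.XTmap (pullback.fst gX gY ≫ gX) g ≫ toXT gX gY T =
      toXT gX gY T' ≫ ((Over.pullback gX).map g).left := by
    refine pullback.hom_ext ?_ ?_
    · rw [Category.assoc, Category.assoc, toXT_fst]
      refine (isPullback_XTmap _ g).w.trans ((congrArg (· ≫ g.left) (toXT_fst gX gY T').symm).trans ?_)
      rw [Category.assoc]
      exact congrArg _ (isPullback_pullback_map gX g).w.symm
    · rw [Category.assoc, Category.assoc, show ((Over.pullback gX).map g).left ≫ pullback.snd T.hom gX =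
        pullback.snd T'.hom gX from pullback.lift_snd _ _ _, toXT, toXT, pullback.lift_snd, pullback.lift_snd,
        ← Category.assoc]
      exact congrArg (· ≫ pullback.fst gX gY) ((pullback.lift_fst _ _ _).trans (Category.comp_id _))
  refine h1.paste_vert (IsPullback.of_bot ?_ hnat (isPullback_pullback_map gX g))
  rw [toXT_fst, toXT_fst]
  exact isPullback_XTmap _ g

theorem exists_opens_hilb_graph [IsLocallyNoetherian S] [IsProper gX] [Flat gX] [IsSeparated gY]
    (H : Over S) (Z : FGA.HilbSet (pullback.fst gX gY ≫ gX) H)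
    (hH : FGA.HilbRepresentedBy (pullback.fst gX gY ≫ gX) H Z) :
    ∃ H₀ : H.left.Opens, ∀ (T : Over S) [IsLocallyNoetherian T.left],
      (∀ a : (Flatn.morS gX gY).obj (Opposite.op T),
        ∃! g : T ⟶ H, Set.range g.left ⊆ (H₀ : Set H.left) ∧
          FGA.hilbPull (pullback.fst gX gY ≫ gX) g Z.1 = (graph gX gY T a).ker) ∧
      (∀ g : T ⟶ H, Set.range g.left ⊆ (H₀ : Set H.left) →
        ∃! a : (Flatn.morS gX gY).obj (Opposite.op T),
          FGA.hilbPull (pullback.fst gX gY ≫ gX) g Z.1 = (graph gX gY T a).ker) := by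
  have : IsLocallyNoetherian H.left := hH.1
  have hw : (Z.1.subschemeι ≫ toXT gX gY H) ≫ pullback.fst H.hom gX =
      Z.1.subschemeι ≫ PicF.XTproj _ H := by rw [Category.assoc, toXT_fst]
  have : IsProper ((Z.1.subschemeι ≫ toXT gX gY H) ≫ pullback.fst H.hom gX) := by rw [hw]; exact Z.2.1
  have : Flat ((Z.1.subschemeι ≫ toXT gX gY H) ≫ pullback.fst H.hom gX) := by rw [hw]; exact Z.2.2
  obtain ⟨H₀, hH₀⟩ := exists_open_isIso_snd (Z.1.subschemeι ≫ toXT gX gY H) (pullback.fst H.hom gX)
  have key : ∀ (T : Over S) (g : T ⟶ H), Set.range g.left ⊆ (H₀ : Set H.left) ↔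
      IsIso ((FGA.hilbPull (pullback.fst gX gY ≫ gX) g Z.1).subschemeι ≫ toXT gX gY T) := by
    intro T g
    rw [hilbPull_eq_comap]
    refine (hH₀ T.left g.left).trans ?_
    have hB := isPullback_pullback_map gX g
    have hA := isPullback_subscheme_toXT gX gY H g Z.1
    rw [← hA.isoPullback_hom_snd]
    refine Iff.trans ⟨fun h => ?_, fun h => ?_⟩ (MorphismProperty.cancel_left_of_respectsIso
      (MorphismProperty.isomorphisms Scheme.{u}) hA.isoPullback.hom _).symm
    · rw [← hB.isoPullback_hom_fst]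
      exact isIso_snd_comp _ _ _
    · rw [← hB.isoPullback_inv_fst]
      have : IsIso (pullback.snd (Z.1.subschemeι ≫ toXT gX gY H) ((Over.pullback gX).map g).left) := h
      exact isIso_snd_comp _ _ _
  refine ⟨H₀, fun T _ => ⟨fun a => ?_, fun g hg => ?_⟩⟩
  · obtain ⟨g, hg, hu⟩ := hH.2 T (graphSet gX gY T a)
    exact ⟨g, ⟨(key T g).mpr (isIso_of_eq_graph_ker gX gY T _ a hg), hg⟩, fun g' hg' => hu g' hg'.2⟩
  · have := (key T g).mp hg
    obtain ⟨a, ha⟩ := exists_eq_graph_ker gX gY T (FGA.hilbPull _ g Z.1)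
    exact ⟨a, ha, fun b hb => graph_ker_injective gX gY T (hb.symm.trans ha)⟩

end Graph

end Groth.MorSchAux
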