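import Groth.Prelude.Def_Flatn
import Mathlib.CategoryTheory.Comma.Over.Pullback

/-!
Base change of a representation of the functor of relative morphisms.
-/

universe u

open CategoryTheory Limits AlgebraicGeometry

namespace Groth.MorSchAux

attribute [local simp] pullback.lift_fst pullback.lift_snd pullback.lift_fst_assoc pullback.lift_snd_assoc

variable {X S S' : Scheme.{u}} (gX : X ⟶ S) (h : S' ⟶ S)

theorem bcIso_aux {T : Scheme.{u}} (t : T ⟶ S') :
    pullback.fst t (pullback.snd gX h) ≫ (t ≫ h) =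
      (pullback.snd t (pullback.snd gX h) ≫ pullback.fst gX h) ≫ gX := by
  rw [← Category.assoc, pullback.condition, Category.assoc, Category.assoc, pullback.condition]

/-- `T ×_{S'} (X ×_S S') ≅ T ×_S X`. -/
noncomputable def bcIso {T : Scheme.{u}} (t : T ⟶ S') :
    pullback t (pullback.snd gX h) ≅ pullback (t ≫ h) gX where
  hom := pullback.lift (pullback.fst _ _) (pullback.snd _ _ ≫ pullback.fst gX h) (bcIso_aux gX h t)
  inv := pullback.lift (pullback.fst _ _)
    (pullback.lift (pullback.snd _ _) (pullback.fst _ _ ≫ t)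
      (by rw [Category.assoc, pullback.condition]))
    (pullback.lift_snd _ _ _).symm
  hom_inv_id := by
    refine pullback.hom_ext (by simp) (pullback.hom_ext (by simp) ?_)
    simp [pullback.condition]
  inv_hom_id := pullback.hom_ext (by simp) (by simp)

theorem bcIso_w {T : Scheme.{u}} (t : T ⟶ S') :
    (bcIso gX h t).hom ≫ (pullback.snd (t ≫ h) gX ≫ gX) =
      (pullback.snd t (pullback.snd gX h) ≫ pullback.snd gX h) ≫ h := by
  simp [bcIso, pullback.condition]

theorem bcIso_natural {T T' : Scheme.{u}} (t : T ⟶ S') (t' : T' ⟶ S') (φ : T ⟶ T') (hφ : φ ≫ t' = t) :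
    pullback.lift (pullback.fst t (pullback.snd gX h) ≫ φ) (pullback.snd t (pullback.snd gX h))
        (by rw [Category.assoc, hφ, pullback.condition]) ≫ (bcIso gX h t').hom =
      (bcIso gX h t).hom ≫ pullback.lift (pullback.fst (t ≫ h) gX ≫ φ) (pullback.snd (t ≫ h) gX)
        (by rw [Category.assoc, reassoc_of% hφ, pullback.condition]) := by
  refine pullback.hom_ext ?_ ?_ <;> simp [bcIso]

/-- The same, natural in `T`. -/
noncomputable def bcNatIso :
    Over.pullback (pullback.snd gX h) ⋙ Over.map (pullback.snd gX h) ⋙ Over.map h ≅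
      Over.map h ⋙ Over.pullback gX ⋙ Over.map gX :=
  NatIso.ofComponents (fun T => Over.isoMk (bcIso gX h T.hom) (bcIso_w gX h T.hom))
    fun {T T'} φ => Over.OverMorphism.ext (bcIso_natural gX h T.hom T'.hom φ.left (Over.w φ))

theorem nonempty_representableBy_baseChange {Y : Scheme.{u}} (gY : Y ⟶ S)
    (M : Over S) (e : (Flatn.morS gX gY).RepresentableBy M) :
    Nonempty ((Flatn.morS (pullback.snd gX h) (pullback.snd gY h)).RepresentableBy
      (Over.mk (pullback.snd M.hom h))) := by
  let adj := Over.mapPullbackAdj h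
  refine ⟨{
    homEquiv := fun {T} => (adj.homEquiv T M).symm.trans (e.homEquiv.trans
      ((Iso.homCongr ((bcNatIso gX h).app T).symm (Iso.refl (Over.mk gY))).trans
        (adj.homEquiv _ (Over.mk gY))))
    homEquiv_comp := fun {T T'} φ ψ => ?_ }⟩
  change adj.homEquiv _ _ (((bcNatIso gX h).hom.app T ≫ e.homEquiv ((adj.homEquiv T M).symm (φ ≫ ψ))) ≫ 𝟙 _) =
    (Over.map (pullback.snd gX h)).map ((Over.pullback (pullback.snd gX h)).map φ) ≫
      adj.homEquiv _ _ (((bcNatIso gX h).hom.app T' ≫ e.homEquiv ((adj.homEquiv T' M).symm ψ)) ≫ 𝟙 _)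
  rw [← adj.homEquiv_naturality_left, adj.homEquiv_naturality_left_symm, e.homEquiv_comp]
  congr 1
  change ((bcNatIso gX h).hom.app T ≫
      (Over.pullback gX ⋙ Over.map gX).map ((Over.map h).map φ) ≫ e.homEquiv _) ≫ 𝟙 _ = _
  rw [Category.comp_id, Category.comp_id]
  exact ((bcNatIso gX h).hom.naturality_assoc φ _).symm

end Groth.MorSchAux
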