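import Groth.Agent.SchemeMorphisms.MorSch.IdealTools

/-!
Base change of the Hilbert scheme.
-/

universe u

open CategoryTheory Limits AlgebraicGeometry

namespace Groth.MorSchAux

variable {X S S' : Scheme.{u}} (f : X ⟶ S) (h : S' ⟶ S)

/-- `(X ×_S S') ×_{S'} T ≅ X ×_S T`. -/
noncomputable def xtIso (T : Over S') :
    PicF.XT (pullback.snd f h) T ≅ PicF.XT f (Over.mk (T.hom ≫ h)) :=
  pullbackLeftPullbackSndIso f h T.hom

theorem xtIso_hom_fst (T : Over S') :
    (xtIso f h T).hom ≫ pullback.fst f (Over.mk (T.hom ≫ h)).hom =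
      pullback.fst (pullback.snd f h) T.hom ≫ pullback.fst f h :=
  pullbackLeftPullbackSndIso_hom_fst f h T.hom

theorem xtIso_hom_snd (T : Over S') :
    (xtIso f h T).hom ≫ PicF.XTproj f (Over.mk (T.hom ≫ h)) = PicF.XTproj (pullback.snd f h) T :=
  pullbackLeftPullbackSndIso_hom_snd f h T.hom

theorem hilbRepresentedBy_baseChange [IsNoetherian S'] (H : Over S) (Z : FGA.HilbSet f H)
    (hH : FGA.HilbRepresentedBy f H Z) [LocallyOfFiniteType H.hom]
    (Z' : FGA.HilbSet (pullback.snd f h) (Over.mk (pullback.snd H.hom h)))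
    (hZ' : Z'.1 = Z.1.comap (pullback.map (pullback.snd f h) (pullback.snd H.hom h) f H.hom
      (pullback.fst f h) (pullback.fst H.hom h) h pullback.condition.symm pullback.condition.symm)) :
    FGA.HilbRepresentedBy (pullback.snd f h) (Over.mk (pullback.snd H.hom h)) Z' := by
  refine ⟨LocallyOfFiniteType.isLocallyNoetherian (pullback.snd H.hom h), fun T _ Y => ?_⟩
  let T₀ : Over S := Over.mk (T.hom ≫ h)
  have : IsLocallyNoetherian T₀.left := inferInstanceAs (IsLocallyNoetherian T.left)
  let toS : (T ⟶ (Over.mk (pullback.snd H.hom h) : Over S')) → (T₀ ⟶ H) := fun g => Over.homMk (g.left ≫ pullback.fst H.hom h) (by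
    change (g.left ≫ pullback.fst H.hom h) ≫ H.hom = T.hom ≫ h
    rw [← Over.w g, Category.assoc, pullback.condition]
    exact (Category.assoc _ _ _).symm)
  let ofS : (T₀ ⟶ H) → (T ⟶ (Over.mk (pullback.snd H.hom h) : Over S')) := fun g => Over.homMk (pullback.lift g.left T.hom (Over.w g))
    (pullback.lift_snd _ _ _)
  have hto : ∀ g, toS (ofS g) = g := fun g => Over.OverMorphism.ext (pullback.lift_fst _ _ _)
  have hinj : ∀ g g', toS g = toS g' → g = g' := fun g g' hgg => by
    refine Over.OverMorphism.ext (pullback.hom_ext (congrArg CommaMorphism.left hgg) ?_)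
    exact (Over.w g).trans (Over.w g').symm
  have key : ∀ g : T ⟶ (Over.mk (pullback.snd H.hom h) : Over S'), FGA.hilbPull (pullback.snd f h) g Z'.1 = (FGA.hilbPull f (toS g) Z.1).comap (xtIso f h T).hom := by
    intro g
    rw [hilbPull_eq_comap, hilbPull_eq_comap, hZ', ← Scheme.IdealSheafData.comap_comp,
      ← Scheme.IdealSheafData.comap_comp]
    congr 1
    refine pullback.hom_ext ?_ ?_
    · rw [Category.assoc, Category.assoc, pullback.lift_fst]
      refine ((pullback.lift_fst_assoc _ _ _ _).trans (congrArg (· ≫ pullback.fst f h) (Category.comp_id _))).trans ?_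
      refine (xtIso_hom_fst f h T).symm.trans (congrArg ((xtIso f h T).hom ≫ ·) ?_)
      exact ((pullback.lift_fst _ _ _).trans (Category.comp_id _)).symm
    · rw [Category.assoc, Category.assoc, pullback.lift_snd]
      refine ((pullback.lift_snd_assoc _ _ _ _).trans (Category.assoc _ _ _)).trans ?_
      refine (congrArg (· ≫ g.left ≫ pullback.fst H.hom h) (xtIso_hom_snd f h T).symm).trans ?_
      refine (Category.assoc _ _ _).trans (congrArg ((xtIso f h T).hom ≫ ·) ?_)
      exact (pullback.lift_snd _ _ _).symm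
  let Y₀ : FGA.HilbSet f T₀ := ⟨Y.1.comap (xtIso f h T).inv, by
    obtain ⟨e, he, h1⟩ := exists_subscheme_comap_iso Y.1 (xtIso f h T).inv
      (by rw [(xtIso f h T).inv.surjective.range_eq]; exact Set.subset_univ _)
    refine mem_hilbProps_of_iso e _ (Y.1.subschemeι ≫ PicF.XTproj (pullback.snd f h) T) ?_ Y.2
    rw [← reassoc_of% h1]
    exact congrArg (((Y.1.comap (xtIso f h T).inv).subschemeι) ≫ ·)
      (((xtIso f h T).inv_hom_id_assoc _).symm.trans (congrArg ((xtIso f h T).inv ≫ ·) (xtIso_hom_snd f h T)))⟩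
  obtain ⟨g, hg, hu⟩ := hH.2 T₀ Y₀
  have hback : Y₀.1.comap (xtIso f h T).hom = Y.1 := by
    change (Y.1.comap _).comap _ = _
    rw [← Scheme.IdealSheafData.comap_comp, Iso.hom_inv_id, Scheme.IdealSheafData.comap_id]
  refine ⟨ofS g, ?_, fun g' hg' => hinj _ _ ?_⟩
  · change FGA.hilbPull (pullback.snd f h) (ofS g) Z'.1 = Y.1
    rw [key, hto, hg, hback]
  · rw [hto]
    refine hu _ (comap_injective_of_isIso (xtIso f h T).hom ?_)
    change (FGA.hilbPull f (toS g') Z.1).comap _ = Y₀.1.comap _
    rw [← key, hg', hback]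

end Groth.MorSchAux
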