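import Groth.Agent.SchemeMorphisms.MorSch.IdealTools
import Groth.Agent.FlatMor2.FibCrit.Fibrewise
import Groth.Agent.FlatmorThree.FibreClosedImmersion
import Mathlib.AlgebraicGeometry.Morphisms.FlatDescent
import Mathlib.AlgebraicGeometry.Morphisms.FlatMono

/-!
The open locus of the base over which a morphism from a flat proper scheme is an isomorphism.
-/

universe u

open CategoryTheory Limits AlgebraicGeometry TopologicalSpace MorphismProperty

namespace Groth.MorSchAux

variable {X Y S : Scheme.{u}}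

theorem isIso_snd_comp (f : X ⟶ Y) {P Q : Scheme.{u}} (a : P ⟶ Q) (b : Q ⟶ Y)
    [h : IsIso (pullback.snd f b)] : IsIso (pullback.snd f (a ≫ b)) := by
  rw [← pullbackLeftPullbackSndIso_inv_snd_snd (f := f) (g := b) (g' := a)]
  infer_instance

theorem isIso_snd_of_comp (f : X ⟶ Y) {P Q : Scheme.{u}} (a : P ⟶ Q) (b : Q ⟶ Y)
    [Surjective a] [Flat a] [QuasiCompact a] [h : IsIso (pullback.snd f (a ≫ b))] :
    IsIso (pullback.snd f b) := by
  have h1 : IsIso (pullback.snd (pullback.snd f b) a) := by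
    rw [← pullbackLeftPullbackSndIso_hom_snd f b a]
    infer_instance
  exact MorphismProperty.of_pullback_snd_of_descendsAlong
    (P := MorphismProperty.isomorphisms Scheme.{u}) (Q := @Surjective ⊓ @Flat ⊓ @QuasiCompact)
    (f := pullback.snd f b) (g := a) ⟨⟨inferInstance, inferInstance⟩, inferInstance⟩ h1

variable (f : X ⟶ Y) (g : Y ⟶ S) [IsProper (f ≫ g)] [IsProper g] [IsLocallyNoetherian S]

/-- A point of `Y` over a good point of `S` has a neighbourhood over which `f` is an isomorphism. -/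
theorem exists_opens_isIso_of_fibre [Flat (f ≫ g)] (y : Y)
    (hy : IsIso (pullback.snd f (g.fiberι (g y)))) :
    ∃ V : Y.Opens, y ∈ V ∧ IsIso (f ∣_ V) := by
  have : IsProper f := IsProper.of_comp f g
  have : LocallyOfFinitePresentation (f ≫ g) := inferInstance
  have : LocallyOfFinitePresentation f := Groth.SpectralTopology.lfp_of_comp f g
  have hfibre : IsIso (f.fiberToSpecResidueField y) := by
    let l : Spec (Y.residueField y) ⟶ g.fiber (g y) :=
      pullback.lift (Y.fromSpecResidueField y) (Spec.map (g.residueFieldMap y))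
        (Scheme.Hom.SpecMap_residueFieldMap_fromSpecResidueField g y).symm
    change IsIso (pullback.snd f (Y.fromSpecResidueField y))
    rw [show Y.fromSpecResidueField y = l ≫ g.fiberι (g y) from (pullback.lift_fst _ _ _).symm]
    exact isIso_snd_comp f _ _
  obtain ⟨V₁, hyV₁, hV₁⟩ := Groth.FlatmorThree.FibreCI.exists_of_universallyClosed f y
    inferInstance ⊤ trivial
    (IsZariskiLocalAtTarget.restrict (inferInstance : UniversallyClosed f) ⊤)
  let O : Set X := {x | (g.stalkMap (f x)).hom.Flat ∧ (f.stalkMap x).hom.Flat}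
  have hO : IsOpen O := Groth.FlatMor2.FibCrit.isOpen_structureSheaf f g
  have hfO : ∀ x, g (f x) = g y → x ∈ O := fun x hx => by
    refine Groth.FlatMor2.FibCrit.flatAt_of_fiberMap f g x (Flat.stalkMap _ x) ?_
    have : IsIso (MoreMor.fiberMap f g (g (f x))) := by
      rw [hx]
      exact (Groth.FlatMor2.FibCrit.of_fiberMap_iff f g (MorphismProperty.isomorphisms Scheme) (g y)).mpr hy
    exact Flat.stalkMap _ _
  let V₂ : Y.Opens := ⟨(f '' Oᶜ)ᶜ, (f.isClosedMap _ hO.isClosed_compl).isOpen_compl⟩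
  have hyV₂ : y ∈ V₂ := fun ⟨x, hx, hxy⟩ => hx (hfO x (congrArg g hxy))
  let V : Y.Opens := V₁ ⊓ V₂
  have hci : IsClosedImmersion (f ∣_ V) := by
    have h1 := (Groth.FlatmorThree.FibreCI.snd_ι_iff @IsClosedImmersion f V₁).mp hV₁
    refine (Groth.FlatmorThree.FibreCI.snd_ι_iff @IsClosedImmersion f V).mpr ?_
    exact Groth.FlatmorThree.FibreCI.snd_of_factor @IsClosedImmersion f V₁.ι
      (Y.homOfLE (inf_le_left : V ≤ V₁)) V.ι (Y.homOfLE_ι _) h1
  have hflat : Flat (f ∣_ V) := by
    refine Flat.of_stalkMap _ fun x => ?_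
    have h1 : ((f ⁻¹ᵁ V).ι x) ∈ O := by
      by_contra hn
      exact ((show f ((f ⁻¹ᵁ V).ι x) ∈ V from x.2).2 : _ ∈ V₂) ⟨_, hn, rfl⟩
    exact (RingHom.Flat.respectsIso.arrow_mk_iso_iff (morphismRestrictStalkMap f V x)).mpr h1.2
  have hlfp : LocallyOfFinitePresentation (f ∣_ V) :=
    IsZariskiLocalAtTarget.restrict (inferInstance : LocallyOfFinitePresentation f) V
  have : IsOpenImmersion (f ∣_ V) := IsOpenImmersion.of_flat_of_mono _
  let R : Y.Opens := V.ι ''ᵁ (f ∣_ V).opensRange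
  have hyR : y ∈ R := by
    let z : f.fiber y := inv (f.fiberToSpecResidueField y) (IsLocalRing.closedPoint _)
    have hz : f (f.fiberι y z) = y :=
      Set.mem_singleton_iff.mp (show f.fiberι y z ∈ f ⁻¹' {y} from (f.range_fiberι y).subset ⟨z, rfl⟩)
    refine ⟨⟨y, hyV₁, hyV₂⟩, ⟨⟨f.fiberι y z, ?_⟩, ?_⟩, rfl⟩
    · change f (f.fiberι y z) ∈ V
      rw [hz]; exact ⟨hyV₁, hyV₂⟩
    · refine Subtype.ext ?_
      exact (morphismRestrict_base_coe f V _).trans hz
  refine ⟨R, hyR, ?_⟩
  have hRV : R ≤ V := fun r ⟨v, _, hv⟩ => hv ▸ v.2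
  have : IsOpenImmersion (f ∣_ R) := by
    refine (Groth.FlatmorThree.FibreCI.snd_ι_iff @IsOpenImmersion f R).mpr ?_
    exact Groth.FlatmorThree.FibreCI.snd_of_factor @IsOpenImmersion f V.ι
      (Y.homOfLE hRV) R.ι (Y.homOfLE_ι _)
      ((Groth.FlatmorThree.FibreCI.snd_ι_iff @IsOpenImmersion f V).mp inferInstance)
  have : Surjective (f ∣_ R) := ⟨fun r => by
    obtain ⟨v, ⟨x, hx⟩, hv⟩ := r.2
    have hfx : f ((f ⁻¹ᵁ V).ι x) = r.1 := by
      rw [← hv, ← hx]
      exact (morphismRestrict_base_coe f V x).symm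
    exact ⟨⟨(f ⁻¹ᵁ V).ι x, show f ((f ⁻¹ᵁ V).ι x) ∈ R from hfx ▸ r.2⟩,
      Subtype.ext ((morphismRestrict_base_coe f R _).trans hfx)⟩⟩
  exact (isIso_iff_isOpenImmersion_and_surjective _).mpr ⟨inferInstance, inferInstance⟩

theorem exists_open_isIso_snd [Flat (f ≫ g)] :
    ∃ S₀ : S.Opens, ∀ (S' : Scheme.{u}) (h : S' ⟶ S),
      Set.range h ⊆ (S₀ : Set S) ↔ IsIso (pullback.snd f (pullback.fst g h)) := by
  let W : Y.Opens := ⨆ V : {V : Y.Opens // IsIso (f ∣_ V)}, V.1
  have hW : IsIso (pullback.snd f W.ι) := by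
    refine (Groth.FlatmorThree.FibreCI.snd_ι_iff (MorphismProperty.isomorphisms Scheme) f W).mp ?_
    refine IsZariskiLocalAtTarget.of_iSup_eq_top
      (P := MorphismProperty.isomorphisms Scheme.{u})
      (fun V : {V : Y.Opens // IsIso (f ∣_ V)} => W.ι ⁻¹ᵁ V.1) ?_ fun V => ?_
    · rw [← Scheme.Hom.preimage_iSup]
      exact W.ι_preimage_self
    · refine (MorphismProperty.arrow_mk_iso_iff _ (morphismRestrictRestrict f W (W.ι ⁻¹ᵁ V.1) ≪≫
        morphismRestrictEq f ?_)).mpr V.2
      rw [Scheme.Hom.image_preimage_eq_opensRange_inf, Scheme.Opens.opensRange_ι]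
      exact inf_eq_right.mpr (le_iSup (fun V : {V : Y.Opens // IsIso (f ∣_ V)} => V.1) V)
  let S₀ : S.Opens := ⟨(g '' (W : Set Y)ᶜ)ᶜ, (g.isClosedMap _ W.isOpen.isClosed_compl).isOpen_compl⟩
  refine ⟨S₀, fun S' h => ⟨fun hr => ?_, ?_⟩⟩
  · have hk : Set.range (pullback.fst g h) ⊆ Set.range W.ι := by
      rw [Scheme.Pullback.range_fst, Scheme.Opens.range_ι]
      intro y hy
      by_contra hn
      exact hr hy ⟨y, hn, rfl⟩
    rw [← IsOpenImmersion.lift_fac W.ι _ hk]
    exact isIso_snd_comp f _ _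
  · rintro hiso _ ⟨s', rfl⟩ ⟨y, hyW, hgy⟩
    let K := Spec (S'.residueField s')
    let κ : K ⟶ Spec (S.residueField (h s')) := Spec.map (h.residueFieldMap s')
    let φ : Over.mk (κ ≫ S.fromSpecResidueField (h s')) ⟶ Over.mk (S.fromSpecResidueField (h s')) :=
      Over.homMk κ rfl
    let a : pullback g (κ ≫ S.fromSpecResidueField (h s')) ⟶ g.fiber (h s') := PicF.XTmap g φ
    have hpb := isPullback_XTmap g φ
    have : Surjective κ := ⟨fun p => ⟨IsLocalRing.closedPoint _, Subsingleton.elim (α := PrimeSpectrum _) _ _⟩⟩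
    have : Flat κ := (HasRingHomProperty.Spec_iff (P := @Flat)).mpr
      (letI := (h.residueFieldMap s').hom.toAlgebra; RingHom.flat_algebraMap_iff.mpr inferInstance)
    have : QuasiCompact κ := inferInstance
    have : Surjective a := MorphismProperty.of_isPullback hpb.flip (inferInstanceAs (Surjective κ))
    have : Flat a := MorphismProperty.of_isPullback hpb.flip (inferInstanceAs (Flat κ))
    have : QuasiCompact a := MorphismProperty.of_isPullback hpb.flip (inferInstanceAs (QuasiCompact κ))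
    let b : pullback g (κ ≫ S.fromSpecResidueField (h s')) ⟶ pullback g h :=
      pullback.lift (pullback.fst _ _) (pullback.snd _ _ ≫ S'.fromSpecResidueField s') (by
        rw [pullback.condition, Category.assoc]
        exact congrArg _ (Scheme.Hom.SpecMap_residueFieldMap_fromSpecResidueField h s'))
    have hab : a ≫ g.fiberι (h s') = b ≫ pullback.fst g h :=
      ((pullback.lift_fst _ _ _).trans (Category.comp_id _)).trans (pullback.lift_fst _ _ _).symm
    have : IsIso (pullback.snd f (a ≫ g.fiberι (h s'))) := by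
      rw [hab]; exact isIso_snd_comp f _ _
    have hfib : IsIso (pullback.snd f (g.fiberι (h s'))) := isIso_snd_of_comp f a _
    rw [← hgy] at hfib
    obtain ⟨V, hyV, hV⟩ := exists_opens_isIso_of_fibre f g y hfib
    exact hyW (le_iSup (fun V : {V : Y.Opens // IsIso (f ∣_ V)} => V.1) ⟨V, hV⟩ hyV)

end Groth.MorSchAux
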